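import Groth.Agent.Lib.DBaseChange.Value
import Mathlib.LinearAlgebra.Matrix.ToLin
import Mathlib.Algebra.Category.Ring.FilteredColimits
import Mathlib.LinearAlgebra.TensorProduct.Pi
import Mathlib.Data.Int.Interval

/-! Perfect complexes descend along filtered colimits of rings. -/

set_option autoImplicit false
set_option linter.style.haveILetI false
set_option linter.unusedSectionVars false
set_option backward.isDefEq.respectTransparency false
set_option backward.isDefEq.respectTransparency.types false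

universe u v w

open CategoryTheory CategoryTheory.Limits

attribute [local instance] HasDerivedCategory.standard

namespace Groth.Agent.PerfDesc9

open scoped TensorProduct

section Ret

variable {C : Type w} [Category.{v} C] [Preadditive C]

/-- A complex presented by retracts of prescribed objects. -/
structure Ret (W : ℤ → C) (e : ∀ i, W i ⟶ W i) (D : ∀ i, W i ⟶ W (i + 1))
    (P : CochainComplex C ℤ) where
  ι : ∀ i, P.X i ⟶ W i
  π : ∀ i, W i ⟶ P.X i
  ιπ : ∀ i, ι i ≫ π i = 𝟙 _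
  πι : ∀ i, π i ≫ ι i = e i
  πd : ∀ i, π i ≫ P.d i (i + 1) ≫ ι (i + 1) = D i

variable {W : ℤ → C} {e : ∀ i, W i ⟶ W i} {D : ∀ i, W i ⟶ W (i + 1)}

theorem Ret.d_ι {P : CochainComplex C ℤ} (r : Ret W e D P) (i : ℤ) :
    P.d i (i + 1) ≫ r.ι (i + 1) = r.ι i ≫ D i := by
  rw [← r.πd, ← Category.assoc (r.ι i), r.ιπ, Category.id_comp]

theorem Ret.π_d {P : CochainComplex C ℤ} (r : Ret W e D P) (i : ℤ) :
    r.π i ≫ P.d i (i + 1) = D i ≫ r.π (i + 1) := by
  rw [← r.πd, Category.assoc, Category.assoc, r.ιπ, Category.comp_id]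

/-- Two complexes with the same retract data are isomorphic. -/
noncomputable def Ret.iso {P P' : CochainComplex C ℤ} (r : Ret W e D P) (r' : Ret W e D P') : P ≅ P' :=
  HomologicalComplex.Hom.isoOfComponents
    (fun i => { hom := r.ι i ≫ r'.π i
                inv := r'.ι i ≫ r.π i
                hom_inv_id := by
                  rw [Category.assoc, ← Category.assoc (r'.π i), r'.πι, ← r.πι, Category.assoc, r.ιπ,
                    Category.comp_id, r.ιπ]
                inv_hom_id := by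
                  rw [Category.assoc, ← Category.assoc (r.π i), r.πι, ← r'.πι, Category.assoc, r'.ιπ,
                    Category.comp_id, r'.ιπ] })
    (fun i j hij => by
      obtain rfl : i + 1 = j := hij
      show (r.ι i ≫ r'.π i) ≫ P'.d i (i + 1) = P.d i (i + 1) ≫ r.ι (i + 1) ≫ r'.π (i + 1)
      rw [Category.assoc, r'.π_d, reassoc_of% r.d_ι i])

end Ret

section Mat

variable {R : Type u} [CommRing R]

/-- `R^n`. -/
noncomputable abbrev Fr (R : Type u) [CommRing R] (n : ℕ) : ModuleCat.{u} R := ModuleCat.of R (Fin n → R)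

/-- The map of a matrix. -/
noncomputable def mh {m n : ℕ} (A : Matrix (Fin m) (Fin n) R) : Fr R n ⟶ Fr R m := ModuleCat.ofHom A.mulVecLin

theorem mh_comp {l m n : ℕ} (A : Matrix (Fin m) (Fin n) R) (B : Matrix (Fin l) (Fin m) R) :
    mh A ≫ mh B = mh (B * A) := by
  apply ModuleCat.hom_ext
  exact (Matrix.mulVecLin_mul B A).symm

theorem mh_zero {m n : ℕ} : mh (0 : Matrix (Fin m) (Fin n) R) = 0 := by
  apply ModuleCat.hom_ext
  exact Matrix.mulVecLin_zero

theorem mh_inj {m n : ℕ} {A B : Matrix (Fin m) (Fin n) R} (h : mh A = mh B) : A = B :=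
  Matrix.toLin'.injective (congrArg ModuleCat.Hom.hom h)

theorem exists_mh {m n : ℕ} (f : Fr R n ⟶ Fr R m) : ∃ A : Matrix (Fin m) (Fin n) R, mh A = f :=
  ⟨LinearMap.toMatrix' f.hom, ModuleCat.hom_ext (Matrix.toLin'_toMatrix' f.hom)⟩

/-- Matrices defining a complex of summands of free modules. -/
structure Data (n : ℤ → ℕ) (R : Type u) [CommRing R] where
  e : ∀ i, Matrix (Fin (n i)) (Fin (n i)) R
  D : ∀ i, Matrix (Fin (n (i + 1))) (Fin (n i)) R

/-- The relations. -/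
structure Data.Good {n : ℤ → ℕ} (x : Data n R) : Prop where
  ee : ∀ i, x.e i * x.e i = x.e i
  eD : ∀ i, x.e (i + 1) * x.D i = x.D i
  De : ∀ i, x.D i * x.e i = x.D i
  DD : ∀ i, x.D (i + 1) * x.D i = 0

/-- Base change of the data. -/
def Data.map {n : ℤ → ℕ} (x : Data n R) {S : Type u} [CommRing S] (φ : R →+* S) : Data n S :=
  ⟨fun i => (x.e i).map φ, fun i => (x.D i).map φ⟩

/-- The complexes presented by the data. -/
abbrev RetD {n : ℤ → ℕ} (x : Data n R) (P : DRing.Cx R) : Type u :=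
  Ret (fun i => Fr R (n i)) (fun i => mh (x.e i)) (fun i => mh (x.D i)) P

theorem exists_complex {n : ℤ → ℕ} (x : Data n R) (hx : x.Good) :
    ∃ P : DRing.Cx R, Nonempty (RetD x P) := by
  let M : ℤ → ModuleCat.{u} R := fun i => ModuleCat.of R (LinearMap.range (x.e i).mulVecLin)
  let ι : ∀ i, M i ⟶ Fr R (n i) := fun i => ModuleCat.ofHom (LinearMap.range (x.e i).mulVecLin).subtype
  let π : ∀ i, Fr R (n i) ⟶ M i := fun i => ModuleCat.ofHom (x.e i).mulVecLin.rangeRestrict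
  have hπι : ∀ i, π i ≫ ι i = mh (x.e i) := fun i => by
    apply ModuleCat.hom_ext
    ext v
    rfl
  have hιπ : ∀ i, ι i ≫ π i = 𝟙 _ := fun i => by
    apply ModuleCat.hom_ext
    refine LinearMap.ext fun y => Subtype.ext ?_
    obtain ⟨v, hv⟩ := y.2
    show (x.e i).mulVecLin (y : Fin (n i) → R) = (y : Fin (n i) → R)
    rw [← hv, ← LinearMap.comp_apply, ← Matrix.mulVecLin_mul, hx.ee]
  let d : ∀ i, M i ⟶ M (i + 1) := fun i => ι i ≫ mh (x.D i) ≫ π (i + 1)
  have hπd : ∀ i, π i ≫ d i ≫ ι (i + 1) = mh (x.D i) := fun i => by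
    simp only [d, Category.assoc, hπι]
    rw [reassoc_of% hπι i, mh_comp, mh_comp, hx.eD, hx.De]
  let P : DRing.Cx R := CochainComplex.of M d fun i => by
    simp only [d, Category.assoc]
    rw [reassoc_of% hπι (i + 1), reassoc_of% mh_comp (x.e (i + 1)) (x.D (i + 1)), hx.De,
      reassoc_of% mh_comp (x.D i) (x.D (i + 1)), hx.DD, mh_zero, zero_comp, comp_zero]
  refine ⟨P, ⟨⟨ι, π, hιπ, hπι, fun i => ?_⟩⟩⟩
  show π i ≫ CochainComplex.of.d M d i (i + 1) ≫ ι (i + 1) = _
  rw [CochainComplex.of_d]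
  exact hπd i

theorem projective_of_retD {n : ℤ → ℕ} {x : Data n R} {P : DRing.Cx R} (r : RetD x P) :
    DRing.TermwiseFiniteProjective P := fun i =>
  ⟨Module.Finite.of_surjective (r.π i).hom fun y =>
      ⟨(r.ι i).hom y, congrArg (fun f : P.X i ⟶ P.X i => f.hom y) (r.ιπ i)⟩,
    Module.Projective.of_split (r.ι i).hom (r.π i).hom (congrArg ModuleCat.Hom.hom (r.ιπ i))⟩

theorem isZero_of_retD {n : ℤ → ℕ} {x : Data n R} {P : DRing.Cx R} (r : RetD x P) {i : ℤ} (h : n i = 0) :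
    IsZero (P.X i) := by
  haveI : IsEmpty (Fin (n i)) := by rw [h]; exact Fin.isEmpty
  have hW : IsZero (Fr R (n i)) := ModuleCat.isZero_of_subsingleton _
  rw [IsZero.iff_id_eq_zero, ← r.ιπ i, hW.eq_of_tgt (r.ι i) 0, zero_comp]

variable {S : Type u} [CommRing S] (φ : R →+* S)

theorem exists_psi (k : ℕ) : ∃ ψ : (ModuleCat.extendScalars φ).obj (Fr R k) ≅ Fr S k,
    ∀ (s : S) (v : Fin k → R), (letI := φ.toAlgebra; ψ.hom.hom (s ⊗ₜ[R] v)) = fun j => s * φ (v j) := by
  letI := φ.toAlgebra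
  refine ⟨(TensorProduct.piScalarRight R S S (Fin k)).toModuleIso, fun s v => ?_⟩
  funext j
  show TensorProduct.piScalarRight R S S (Fin k) (s ⊗ₜ[R] v) j = _
  rw [TensorProduct.piScalarRight_apply, TensorProduct.piScalarRightHom_tmul]
  show v j • s = _
  rw [Algebra.smul_def, mul_comm]
  rfl

theorem psi_natural {m k : ℕ} (A : Matrix (Fin m) (Fin k) R)
    (ψk : (ModuleCat.extendScalars φ).obj (Fr R k) ≅ Fr S k)
    (hk : ∀ (s : S) (v : Fin k → R), (letI := φ.toAlgebra; ψk.hom.hom (s ⊗ₜ[R] v)) = fun j => s * φ (v j))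
    (ψm : (ModuleCat.extendScalars φ).obj (Fr R m) ≅ Fr S m)
    (hm : ∀ (s : S) (v : Fin m → R), (letI := φ.toAlgebra; ψm.hom.hom (s ⊗ₜ[R] v)) = fun j => s * φ (v j)) :
    (ModuleCat.extendScalars φ).map (mh A) ≫ ψm.hom = ψk.hom ≫ mh (A.map φ) := by
  letI := φ.toAlgebra
  refine ModuleCat.ExtendScalars.hom_ext fun v => ?_
  show ψm.hom.hom ((1 : S) ⊗ₜ[R] (A.mulVecLin v)) = (A.map φ).mulVecLin (ψk.hom.hom ((1 : S) ⊗ₜ[R] v))
  rw [hm, hk]
  funext j
  simp only [one_mul, Matrix.mulVecLin_apply]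
  exact RingHom.map_mulVec φ A v j

theorem nonempty_retD_ext {n : ℤ → ℕ} {x : Data n R} {P : DRing.Cx R} (r : RetD x P) :
    Nonempty (RetD (x.map φ) ((DBaseChange.extCx φ).obj P)) := by
  choose ψ hψ using exists_psi φ
  let F := ModuleCat.extendScalars.{u, u, u} φ
  refine ⟨⟨fun i => F.map (r.ι i) ≫ (ψ (n i)).hom, fun i => (ψ (n i)).inv ≫ F.map (r.π i), fun i => ?_,
    fun i => ?_, fun i => ?_⟩⟩
  · rw [Category.assoc, Iso.hom_inv_id_assoc, ← F.map_comp, r.ιπ, F.map_id]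
    rfl
  · rw [Category.assoc, ← F.map_comp_assoc, r.πι, psi_natural φ (x.e i) _ (hψ _) _ (hψ _), Iso.inv_hom_id_assoc]
    rfl
  · show ((ψ (n i)).inv ≫ F.map (r.π i)) ≫ F.map (P.d i (i + 1)) ≫ F.map (r.ι (i + 1)) ≫ (ψ (n (i + 1))).hom = _
    rw [Category.assoc, ← F.map_comp_assoc, ← F.map_comp_assoc, Category.assoc, r.πd, psi_natural φ (x.D i) _ (hψ _) _ (hψ _),
      Iso.inv_hom_id_assoc]
    rfl

theorem exists_retD (P : DRing.Cx R) (a b : ℤ) (hv : DRing.VanishesOutside P a b)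
    (hP : DRing.TermwiseFiniteProjective P) :
    ∃ (n : ℤ → ℕ) (x : Data n R), (∀ i, i < a ∨ b < i → n i = 0) ∧ x.Good ∧ Nonempty (RetD x P) := by
  classical
  have h : ∀ i, ∃ (k : ℕ) (ι : P.X i ⟶ Fr R k) (π : Fr R k ⟶ P.X i),
      (i < a ∨ b < i → k = 0) ∧ ι ≫ π = 𝟙 _ := fun i => by
    by_cases hi : i < a ∨ b < i
    · exact ⟨0, 0, 0, fun _ => rfl, (hv i hi).eq_of_src _ _⟩
    · haveI := (hP i).1
      haveI := (hP i).2
      obtain ⟨k, f, g, -, -, hfg⟩ := Module.Finite.exists_comp_eq_id_of_projective R (P.X i)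
      exact ⟨k, ModuleCat.ofHom g, ModuleCat.ofHom f, fun hh => absurd hh hi, ModuleCat.hom_ext hfg⟩
  choose n ι π hn hιπ using h
  choose e he using fun i => exists_mh (π i ≫ ι i)
  choose D hD using fun i => exists_mh (π i ≫ P.d i (i + 1) ≫ ι (i + 1))
  refine ⟨n, ⟨e, D⟩, hn, ⟨fun i => ?_, fun i => ?_, fun i => ?_, fun i => ?_⟩,
    ⟨⟨ι, π, hιπ, fun i => (he i).symm, fun i => (hD i).symm⟩⟩⟩
  all_goals apply mh_inj
  · rw [← mh_comp, he, Category.assoc, reassoc_of% hιπ i]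
  · rw [← mh_comp, hD, he]
    simp only [Category.assoc]
    rw [reassoc_of% hιπ (i + 1)]
  · rw [← mh_comp, hD, he, Category.assoc, reassoc_of% hιπ i]
  · rw [← mh_comp, hD, hD, mh_zero]
    simp only [Category.assoc]
    rw [reassoc_of% hιπ (i + 1), HomologicalComplex.d_comp_d_assoc, zero_comp, comp_zero]

end Mat

section Colim

variable {J : Type u} [SmallCategory J] [IsFiltered J] (F : J ⥤ CommRingCat.{u}) (c : Cocone F) (hc : IsColimit c)

include hc

omit hc in
/-- Finitely many upward closed conditions hold at a common stage. -/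
theorem exists_forall_of_upward {σ : Type w} (s : Finset σ) {k : J} (P : σ → ∀ l : J, (k ⟶ l) → Prop)
    (hup : ∀ x l l' (f : k ⟶ l) (g : l ⟶ l'), P x l f → P x l' (f ≫ g))
    (h : ∀ x ∈ s, ∃ l f, P x l f) : ∃ l f, ∀ x ∈ s, P x l f := by
  classical
  induction s using Finset.induction_on with
  | empty => exact ⟨k, 𝟙 k, fun x hx => absurd hx (Finset.notMem_empty x)⟩
  | @insert x s hx ih =>
    obtain ⟨l, f, hf⟩ := ih fun y hy => h y (Finset.mem_insert_of_mem hy)
    obtain ⟨m, g, hg⟩ := h x (Finset.mem_insert_self x s)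
    obtain ⟨t, α, β, hαβ⟩ := IsFiltered.span f g
    refine ⟨t, f ≫ α, fun y hy => ?_⟩
    rcases Finset.mem_insert.1 hy with rfl | hy
    · rw [hαβ]; exact hup _ _ _ g β hg
    · exact hup _ _ _ f α (hf y hy)

theorem exists_eq_stage {k : J} (a b : F.obj k) (h : c.ι.app k a = c.ι.app k b) :
    ∃ (l : J) (f : k ⟶ l), F.map f a = F.map f b :=
  (Types.FilteredColimit.isColimit_eq_iff' (isColimitOfPreserves (forget CommRingCat.{u}) hc) a b).1 h

theorem exists_lift {σ : Type w} [Finite σ] (s : σ → c.pt) :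
    ∃ (j : J) (t : σ → F.obj j), ∀ x, c.ι.app j (t x) = s x := by
  classical
  haveI := Fintype.ofFinite σ
  choose j t ht using fun x => Concrete.isColimit_exists_rep F hc (s x)
  obtain ⟨k, hk⟩ := IsFiltered.sup_objs_exists (Finset.univ.image j)
  let f : ∀ x, j x ⟶ k := fun x => (hk (Finset.mem_image_of_mem j (Finset.mem_univ x))).some
  exact ⟨k, fun x => F.map (f x) (t x), fun x =>
    (congrArg (fun φ : F.obj (j x) ⟶ c.pt => φ (t x)) (c.w (f x))).trans (ht x)⟩

/-- Matrix equations descend. -/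
theorem exists_mat_eq {k : J} {m n : ℕ} (A B : Matrix (Fin m) (Fin n) (F.obj k))
    (h : A.map (c.ι.app k).hom = B.map (c.ι.app k).hom) :
    ∃ (l : J) (f : k ⟶ l), A.map (F.map f).hom = B.map (F.map f).hom := by
  obtain ⟨l, f, hf⟩ := exists_forall_of_upward (Finset.univ : Finset (Fin m × Fin n))
    (fun x l f => F.map f (A x.1 x.2) = F.map f (B x.1 x.2))
    (fun x l l' f g hx => by simp only [Functor.map_comp]; exact congrArg (F.map g) hx)
    (fun x _ => exists_eq_stage F c hc _ _ (congrFun (congrFun h x.1) x.2))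
  exact ⟨l, f, Matrix.ext fun p q => hf (p, q) (Finset.mem_univ _)⟩

/-- The data descend. -/
theorem exists_data {n : ℤ → ℕ} (a b : ℤ) (hn : ∀ i, i < a ∨ b < i → n i = 0) (x : Data n c.pt) (hx : x.Good) :
    ∃ (l : J) (y : Data n (F.obj l)), y.Good ∧ y.map (c.ι.app l).hom = x := by
  classical
  let I := Finset.Icc (a - 2) b
  obtain ⟨k, t, ht⟩ := exists_lift F c hc
    (σ := Σ i : I, (Fin (n i) × Fin (n i)) ⊕ (Fin (n ((i : ℤ) + 1)) × Fin (n i)))
    (fun q => q.2.elim (fun p => x.e q.1 p.1 p.2) (fun p => x.D q.1 p.1 p.2))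
  have hout : ∀ i, i ∉ I → IsEmpty (Fin (n i)) ∧ IsEmpty (Fin (n (i + 1))) := fun i hi => by
    simp only [I, Finset.mem_Icc] at hi
    rw [hn i (by omega), hn (i + 1) (by omega)]
    exact ⟨Fin.isEmpty, Fin.isEmpty⟩
  let y : Data n (F.obj k) :=
    { e := fun i => if hi : i ∈ I then fun p q => t ⟨⟨i, hi⟩, Sum.inl (p, q)⟩ else 0
      D := fun i => if hi : i ∈ I then fun p q => t ⟨⟨i, hi⟩, Sum.inr (p, q)⟩ else 0 }
  have hye : ∀ i, (y.e i).map (c.ι.app k).hom = x.e i := fun i => by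
    by_cases hi : i ∈ I
    · simp only [y, dif_pos hi]
      exact Matrix.ext fun p q => ht ⟨⟨i, hi⟩, Sum.inl (p, q)⟩
    · haveI := (hout i hi).1
      exact Subsingleton.elim _ _
  have hyD : ∀ i, (y.D i).map (c.ι.app k).hom = x.D i := fun i => by
    by_cases hi : i ∈ I
    · simp only [y, dif_pos hi]
      exact Matrix.ext fun p q => ht ⟨⟨i, hi⟩, Sum.inr (p, q)⟩
    · haveI := (hout i hi).1
      exact Subsingleton.elim _ _
  let Rel : ℤ → ∀ l : J, (k ⟶ l) → Prop := fun i l f =>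
    (y.e i * y.e i).map (F.map f).hom = (y.e i).map (F.map f).hom ∧
    (y.e (i + 1) * y.D i).map (F.map f).hom = (y.D i).map (F.map f).hom ∧
    (y.D i * y.e i).map (F.map f).hom = (y.D i).map (F.map f).hom ∧
    (y.D (i + 1) * y.D i).map (F.map f).hom = (0 : Matrix (Fin (n (i + 1 + 1))) (Fin (n i)) (F.obj k)).map (F.map f).hom
  have up1 : ∀ {p q : ℕ} (A B : Matrix (Fin p) (Fin q) (F.obj k)) (l l' : J) (f : k ⟶ l) (g : l ⟶ l'),
      A.map (F.map f).hom = B.map (F.map f).hom → A.map (F.map (f ≫ g)).hom = B.map (F.map (f ≫ g)).hom :=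
    fun A B l l' f g h => Matrix.ext fun p q => by
      simp only [Functor.map_comp, Matrix.map_apply]
      exact congrArg (F.map g) (congrFun (congrFun h p) q)
  obtain ⟨l, f, hf⟩ := exists_forall_of_upward I Rel
    (fun i l l' f g ⟨h1, h2, h3, h4⟩ =>
      ⟨up1 _ _ _ _ f g h1, up1 _ _ _ _ f g h2, up1 _ _ _ _ f g h3, up1 _ _ _ _ f g h4⟩)
    (fun i hi => by
      obtain ⟨l1, f1, h1⟩ := exists_mat_eq F c hc (y.e i * y.e i) (y.e i)
        (by rw [Matrix.map_mul, hye, hx.ee])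
      obtain ⟨l2, f2, h2⟩ := exists_mat_eq F c hc (y.e (i + 1) * y.D i) (y.D i)
        (by rw [Matrix.map_mul, hye, hyD, hx.eD])
      obtain ⟨l3, f3, h3⟩ := exists_mat_eq F c hc (y.D i * y.e i) (y.D i)
        (by rw [Matrix.map_mul, hye, hyD, hx.De])
      obtain ⟨l4, f4, h4⟩ := exists_mat_eq F c hc (y.D (i + 1) * y.D i) 0
        (by rw [Matrix.map_mul, hyD, hyD, hx.DD, Matrix.map_zero _ (map_zero _)])
      obtain ⟨l5, α, β, hαβ⟩ := IsFiltered.span f1 f2
      obtain ⟨l6, γ, δ, hγδ⟩ := IsFiltered.span f3 f4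
      obtain ⟨l7, μ, ν, hμν⟩ := IsFiltered.span (f1 ≫ α) (f3 ≫ γ)
      refine ⟨l7, (f1 ≫ α) ≫ μ, up1 _ _ _ _ _ _ (up1 _ _ _ _ _ _ h1), ?_, ?_, ?_⟩
      · rw [hαβ]; exact up1 _ _ _ _ _ _ (up1 _ _ _ _ _ _ h2)
      · rw [hμν]; exact up1 _ _ _ _ _ _ (up1 _ _ _ _ _ _ h3)
      · rw [hμν, hγδ]; exact up1 _ _ _ _ _ _ (up1 _ _ _ _ _ _ h4))
  refine ⟨l, y.map (F.map f).hom, ⟨fun i => ?_, fun i => ?_, fun i => ?_, fun i => ?_⟩, ?_⟩
  · by_cases hi : i ∈ I
    · exact Matrix.map_mul.symm.trans (hf i hi).1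
    · haveI := (hout i hi).1
      exact Subsingleton.elim _ _
  · by_cases hi : i ∈ I
    · exact Matrix.map_mul.symm.trans (hf i hi).2.1
    · haveI := (hout i hi).1
      exact Subsingleton.elim _ _
  · by_cases hi : i ∈ I
    · exact Matrix.map_mul.symm.trans (hf i hi).2.2.1
    · haveI := (hout i hi).1
      exact Subsingleton.elim _ _
  · by_cases hi : i ∈ I
    · exact Matrix.map_mul.symm.trans ((hf i hi).2.2.2.trans (Matrix.map_zero _ (map_zero _)))
    · haveI := (hout i hi).1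
      exact Subsingleton.elim _ _
  · have hw : ∀ z : F.obj k, c.ι.app l (F.map f z) = c.ι.app k z := fun z =>
      congrArg (fun φ : F.obj k ⟶ c.pt => φ z) (c.w f)
    have e1 : (fun i => ((y.e i).map (F.map f).hom).map (c.ι.app l).hom) = x.e := funext fun i => by
      rw [← hye i]; exact Matrix.ext fun p q => hw _
    have e2 : (fun i => ((y.D i).map (F.map f).hom).map (c.ι.app l).hom) = x.D := funext fun i => by
      rw [← hyD i]; exact Matrix.ext fun p q => hw _
    exact congrArg₂ Data.mk e1 e2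

/-- A perfect object descends. -/
theorem exists_perfect_descends [∀ j : J, DRing.HasLBaseChange (c.ι.app j).hom] (K : Dual.D c.pt)
    (hK : DRing.IsPerfect c.pt K) :
    ∃ (j : J) (Kj : Dual.D (F.obj j)), DRing.IsPerfect (F.obj j) Kj ∧
      Nonempty ((DRing.LBaseChange (c.ι.app j).hom).obj Kj ≅ K) := by
  obtain ⟨E, a, b, hE, hEp, ⟨e⟩⟩ := hK
  obtain ⟨n, x, hn, hx, ⟨r⟩⟩ := exists_retD E a b hE hEp
  obtain ⟨l, y, hy, rfl⟩ := exists_data F c hc a b hn x hx
  obtain ⟨P, ⟨q⟩⟩ := exists_complex y hy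
  have hPv : DRing.VanishesOutside P a b := fun i hi => isZero_of_retD q (hn i hi)
  have hPp := projective_of_retD q
  haveI : P.IsStrictlyLE b := (CochainComplex.isStrictlyLE_iff _ b).2 fun i hi => hPv i (Or.inr hi)
  have hflat : ∀ i, Module.Flat (F.obj l) (P.X i) := fun i => haveI := (hPp i).2; inferInstance
  obtain ⟨q'⟩ := nonempty_retD_ext (c.ι.app l).hom q
  exact ⟨l, DRing.toD P, ⟨P, a, b, hPv, hPp, ⟨Iso.refl _⟩⟩,
    ⟨DBaseChange.valueIso _ P (DBaseChange.adapted_of_flat P b hflat) ≪≫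
      DerivedCategory.Q.mapIso (q'.iso r) ≪≫ e⟩⟩

end Colim

end Groth.Agent.PerfDesc9
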